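import Mathlib.AlgebraicGeometry.AffineSpace
import Mathlib.Algebra.MvPolynomial.Nilpotent

/-!
# Units on affine space over a reduced scheme
-/

set_option autoImplicit false
set_option linter.style.haveILetI false
universe u

open CategoryTheory CategoryTheory.Limits AlgebraicGeometry MvPolynomial

noncomputable section

namespace Groth.Agent.AffineSpUnits

variable {n : Type u}

theorem toSpecΓ_inv_appTop {Y : Scheme.{u}} [IsAffine Y] :
    Y.isoSpec.inv.appTop = (Scheme.ΓSpecIso Γ(Y, ⊤)).inv := by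
  rw [← cancel_mono (Scheme.ΓSpecIso Γ(Y, ⊤)).hom, Iso.inv_hom_id, ← Scheme.toSpecΓ_appTop,
    ← Scheme.Hom.comp_appTop]
  change (Y.isoSpec.hom ≫ Y.isoSpec.inv).appTop = _
  simp

/-- Units on affine space over a reduced affine scheme come from the base. -/
theorem exists_eq_of_affine {Y : Scheme.{u}} [IsAffine Y] [IsReduced Y] (w : Γ(𝔸(n; Y), ⊤)) (hw : IsUnit w) :
    ∃ c : Γ(Y, ⊤), (𝔸(n; Y) ↘ Y).appTop c = w := by
  let e := AffineSpace.isoOfIsAffine n Y
  let R := CommRingCat.of (MvPolynomial n Γ(Y, ⊤))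
  let h : MvPolynomial n Γ(Y, ⊤) := (Scheme.ΓSpecIso R).hom (e.inv.appTop w)
  have hu : IsUnit h := (hw.map e.inv.appTop.hom).map (Scheme.ΓSpecIso R).hom.hom
  obtain ⟨-, hnil⟩ := MvPolynomial.isUnit_iff.1 hu
  haveI : _root_.IsReduced Γ(Y, ⊤) := inferInstance
  have hC : h = C (h.coeff 0) := by
    classical
    ext m
    rw [coeff_C]
    split_ifs with hm
    · rw [hm]
    · exact (hnil m (Ne.symm hm)).eq_zero
  refine ⟨h.coeff 0, ?_⟩
  have hinj : Function.Injective e.inv.appTop.hom := by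
    intro a b hab
    have := congrArg e.hom.appTop.hom hab
    rw [← RingHom.comp_apply, ← RingHom.comp_apply, ← CommRingCat.hom_comp, ← Scheme.Hom.comp_appTop,
      Iso.hom_inv_id] at this
    simpa using this
  apply hinj
  have h1 : e.inv.appTop ((𝔸(n; Y) ↘ Y).appTop (h.coeff 0)) = (Scheme.ΓSpecIso R).inv (C (h.coeff 0)) := by
    rw [← ConcreteCategory.comp_apply, ← Scheme.Hom.comp_appTop, AffineSpace.isoOfIsAffine_inv_over,
      Scheme.Hom.comp_appTop, toSpecΓ_inv_appTop, ConcreteCategory.comp_apply]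
    exact (congrArg (fun t => t.hom (h.coeff 0))
      (Scheme.ΓSpecIso_inv_naturality (CommRingCat.ofHom (C : Γ(Y, ⊤) →+* MvPolynomial n Γ(Y, ⊤))))).symm
  refine h1.trans ?_
  rw [← hC]
  simp [h]

/-- The zero section. -/
def zeroSec (n : Type u) (X : Scheme.{u}) : X ⟶ 𝔸(n; X) := AffineSpace.homOfVector (𝟙 X) 0

theorem zeroSec_map {X Y : Scheme.{u}} (f : Y ⟶ X) : zeroSec n Y ≫ AffineSpace.map n f = f ≫ zeroSec n X := by
  ext1
  · simp [zeroSec]
  · simp [zeroSec]

theorem exists_eq (X : Scheme.{u}) [IsReduced X] (w : Γ(𝔸(n; X), ⊤)) (hw : IsUnit w) :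
    ∃ v : Γ(X, ⊤), IsUnit v ∧ (𝔸(n; X) ↘ X).appTop v = w := by
  refine ⟨(zeroSec n X).appTop w, hw.map (zeroSec n X).appTop.hom, ?_⟩
  rw [← sub_eq_zero]
  refine Scheme.zero_of_zero_cover _ (X.affineCover.pullback₁ (𝔸(n; X) ↘ X)) fun i => ?_
  let f := X.affineCover.f i
  haveI : IsReduced (X.affineCover.X i) := isReduced_of_isOpenImmersion f
  let g := AffineSpace.map n f
  have hg : g.appTop ((𝔸(n; X) ↘ X).appTop ((zeroSec n X).appTop w) - w) = 0 := by
    obtain ⟨c, hc⟩ := exists_eq_of_affine (g.appTop w) (hw.map g.appTop.hom)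
    have hzc : (zeroSec n (X.affineCover.X i)).appTop (g.appTop w) = c := by
      rw [← hc, ← ConcreteCategory.comp_apply, ← Scheme.Hom.comp_appTop]
      simp [zeroSec]
    rw [map_sub, sub_eq_zero, ← ConcreteCategory.comp_apply, ← Scheme.Hom.comp_appTop, AffineSpace.map_over,
      Scheme.Hom.comp_appTop, ConcreteCategory.comp_apply]
    refine Eq.trans ?_ hc
    congr 1
    rw [← hzc, ← ConcreteCategory.comp_apply, ← ConcreteCategory.comp_apply, ← Scheme.Hom.comp_appTop,
      ← Scheme.Hom.comp_appTop, zeroSec_map]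
  have hP := (AffineSpace.isPullback_map (n := n) f)
  have e : (X.affineCover.pullback₁ (𝔸(n; X) ↘ X)).f i = hP.isoPullback.inv ≫ g := (hP.isoPullback_inv_fst).symm
  show ((X.affineCover.pullback₁ (𝔸(n; X) ↘ X)).f i).appTop _ = 0
  rw [e, Scheme.Hom.comp_appTop]
  exact (congrArg hP.isoPullback.inv.appTop.hom hg).trans (map_zero _)

end Groth.Agent.AffineSpUnits
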